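import Cfsg.Agent.H630.NHBabyC
import Cfsg.Agent.H997.OutHe2

/-!
# The centralizers of the elements of order 7 of the Baby Monster (S2454, helper829)

`card_cent_seven` : `|C_B(y)| ≤ 564480 = 7 * 161280 / 2` for `y` of order 7: a lift of `y` to the Monster has the
centralizer `7 × He`, and the centralizers of the involutions of `He` have order at most `161280`.
-/

set_option autoImplicit false
set_option maxRecDepth 100000

namespace Cfsg.Agent.H829.Pw

open Cfsg Cfsg.Agent.BpTab Cfsg.Agent.CpAutBFive Cfsg.Agent.MFive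
open Cfsg.Agent.LThreeMB (fr Zx XX KChart.Cent KChart.pi KChart.chart)
open Cfsg.Agent.MonsterU Cfsg.Agent.MonsterU.Ch
open Cfsg.Agent.MonsterX Cfsg.Agent.MonsterX.MainBasic Cfsg.Agent.MonsterN Cfsg.Agent.MonsterP
open Cfsg.Agent.MonsterU.Lam2 (L2)
open Cfsg.Spor (Co1)
open Subgroup (centralizer zpowers mem_centralizer_singleton_iff center)

universe u

/-- conjugate elements have centralizers of the same order -/
theorem card_cent_of_isConj {G : Type*} [Group G] {s t : G} (h : IsConj s t) :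
    Nat.card ↥(centralizer ({t} : Set G)) = Nat.card ↥(centralizer ({s} : Set G)) := by
  obtain ⟨c, rfl⟩ := isConj_iff.1 h
  have h1 := CTwoTab.map_centralizer_singleton (MulAut.conj c) s
  rw [show c * s * c⁻¹ = MulAut.conj c s from rfl, ← h1]
  exact Subgroup.card_map_of_injective (MulAut.conj c).injective

/-- the centralizers of the involutions of `He` -/
theorem he_inv {H : Type*} [Group H] (h : Spor.IsoHe H) {τ : H} (hτ : orderOf τ = 2) :
    Nat.card ↥(centralizer ({τ} : Set H)) ≤ 161280 := by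
  obtain ⟨e⟩ := h
  rw [LThreeB.card_centralizer_congr e τ]
  have h2 : orderOf (e τ) = 2 := by rw [MulEquiv.orderOf_eq, hτ]
  have h3 : e τ * e τ = 1 := by rw [← pow_two, ← h2, pow_orderOf_eq_one]
  have h4 : e τ ≠ 1 := by
    intro h5
    rw [h5, orderOf_one] at h2
    norm_num at h2
  rcases CTwoTab.He.classes h3 h4 with hc | hc
  · have h5 : Nat.card ↥(Subgroup.centralizer ({CTwoTab.He.z} : Set Spor.He)) = 21504 := KFacts.He.Cent.card_cent
    rw [card_cent_of_isConj hc, h5]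
    norm_num
  · rw [card_cent_of_isConj hc]
    exact Nat.le_of_dvd (by norm_num) H997.OutHe.card_cent_a

/-- an element of order 7 of the Monster which commutes with a 2A-involution -/
theorem exists_he {v y : ↥InstData.M.G} (hv : IsConj BpSpor.BCover.t v) (hy : orderOf y = 7) (hyv : y * v = v * y) :
    ∃ g : ↥InstData.M.G, Spor.IsoHe (XX (g⁻¹ * y * g)) := by
  have := MFive.Row.finite_model
  have h := KChart.chart KDone.lft MFive.Row.hc
  have hp : Nat.Prime 7 := by norm_num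
  have ht := CpAutBFive.RowB.orderOf_t hv
  have hnt := CpAutBFive.RowB.not_conj hv
  have he : 2 ∣ Nat.card ↥(centralizer ({y} : Set ↥InstData.M.G)) := by
    have h1 : orderOf (⟨v, mem_centralizer_singleton_iff.2 hyv.symm⟩ : ↥(centralizer ({y} : Set ↥InstData.M.G))) = 2 := by
      rw [← Subgroup.orderOf_coe]
      exact ht
    rw [← h1]
    exact orderOf_dvd_natCard _
  obtain ⟨g, hg⟩ := MSevenT.hex7 y hy he
  have h1 : (g⁻¹ * y * g) * KDone.K.z = KDone.K.z * (g⁻¹ * y * g) := by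
    calc (g⁻¹ * y * g) * KDone.K.z = g⁻¹ * (y * (g * KDone.K.z * g⁻¹)) * g := by group
      _ = g⁻¹ * ((g * KDone.K.z * g⁻¹) * y) * g := by rw [hg]
      _ = KDone.K.z * (g⁻¹ * y * g) := by group
  obtain ⟨x', hx'⟩ : ∃ x' : centralizer ({KDone.K.z} : Set ↥InstData.M.G), (x' : ↥InstData.M.G) = g⁻¹ * y * g :=
    ⟨⟨g⁻¹ * y * g, mem_centralizer_singleton_iff.2 h1⟩, rfl⟩
  have h7 : orderOf (g⁻¹ * y * g) = 7 := by
    have h6 := MulEquiv.orderOf_eq (MulAut.conj g⁻¹) y
    rw [MulAut.conj_apply, inv_inv] at h6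
    rw [h6, hy]
  have hx7 : orderOf x' = 7 := by rw [← Subgroup.orderOf_coe, hx', h7]
  have h4 : (x' : ↥InstData.M.G) * (g⁻¹ * v * g) = (g⁻¹ * v * g) * x' := by
    rw [hx']
    calc g⁻¹ * y * g * (g⁻¹ * v * g) = g⁻¹ * (y * v) * g := by group
      _ = g⁻¹ * (v * y) * g := by rw [hyv]
      _ = _ := by group
  have h5 : orderOf (g⁻¹ * v * g) = 2 := by
    have h6 := MulEquiv.orderOf_eq (MulAut.conj g⁻¹) v
    rw [MulAut.conj_apply, inv_inv] at h6
    rw [h6, ht]
  refine ⟨g, ?_⟩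
  rw [← hx']
  rcases CpAutMSeven.Ranks.hranks _ (MFive.orderOf_pi h hp (by decide) hx7) with h8 | h8
  · obtain ⟨d, hd⟩ := BpMon.BSeven.conj_z hx7 h8 h5 h4
    exfalso
    refine hnt (d⁻¹ * g⁻¹) ?_
    calc d⁻¹ * g⁻¹ * v * (d⁻¹ * g⁻¹)⁻¹ = d⁻¹ * (g⁻¹ * v * g) * d := by group
      _ = KDone.K.z := by rw [← hd]; group
  · exact CpAutMSeven.ZeroComps.heSix x' hx7 h8

/-- **The centralizers of the elements of order 7 of the Baby Monster.** -/
theorem card_cent_seven {L : Type u} [Group L] [Finite L] (h : Spor.IsoB L) {y : L} (hy : orderOf y = 7) :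
    Nat.card ↥(centralizer ({y} : Set L)) ≤ 564480 := by
  have hfin : Finite H630.Baby.Mon := MThirteen.Row.finite
  obtain ⟨t, x, ht, hx, hxt, hc⟩ := H630.Baby.exists_lift_card h (by norm_num) (by norm_num) hy
  obtain ⟨g, hg⟩ := exists_he (v := t) ht hx hxt
  have hx' : orderOf (g⁻¹ * x * g) = 7 := by
    have h6 := MulEquiv.orderOf_eq (MulAut.conj g⁻¹) x
    rw [MulAut.conj_apply, inv_inv] at h6
    rw [h6, hx]
  have ht' : orderOf (g⁻¹ * t * g) = 2 := by
    have h6 := MulEquiv.orderOf_eq (MulAut.conj g⁻¹) t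
    rw [MulAut.conj_apply, inv_inv] at h6
    rw [h6]
    exact MThirteen.Row.ta_order ht
  have hxt' : g⁻¹ * x * g * (g⁻¹ * t * g) = g⁻¹ * t * g * (g⁻¹ * x * g) := by
    calc g⁻¹ * x * g * (g⁻¹ * t * g) = g⁻¹ * (x * t) * g := by group
      _ = g⁻¹ * (t * x) * g := by rw [hxt]
      _ = _ := by group
  obtain ⟨τ, hτ, hd⟩ := H979.BAdj.card_XT_dvd (r := 7) (by norm_num) (by norm_num) hx' ht' hxt'
  have h1 : Nat.card ↥(LThreeB.XT x t) = Nat.card ↥(LThreeB.XT (g⁻¹ * x * g) (g⁻¹ * t * g)) := by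
    have h2 := Nat.card_congr (LThreeB.conjXT g⁻¹ x t).toEquiv
    rw [inv_inv] at h2
    exact h2
  have h3 := he_inv hg hτ
  have h4 := Nat.le_of_dvd (Nat.mul_pos (by norm_num) Nat.card_pos) hd
  rw [← h1, hc] at h4
  omega

end Cfsg.Agent.H829.Pw
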