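import Cfsg.Agent.H829.Pw.ThSmall
import Cfsg.Agent.H630.NHBabyB
import Cfsg.Agent.H149.Sp.Baby

/-!
# The centralizers of the elements of order 47 of the Baby Monster (S2454, helper829)

Their order divides `11 * 17 * 23 * 47`.
-/

set_option autoImplicit false
set_option maxRecDepth 100000

namespace Cfsg.Agent.H829.Pw

open Subgroup Cfsg Cfsg.Agent.H514.DP Cfsg.Agent.H773.Pw Cfsg.Agent.H630.Baby Cfsg.Agent.H241.NH

universe u

variable {L : Type u} [Group L] [Finite L]

/-- elements of orders 5 and 47 do not commute -/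
theorem five47 (h : Spor.IsoB L) {x y : L} (hx : orderOf x = 5) (hy : orderOf y = 47) : x * y ≠ y * x := by
  have hN := NotCT.Orders.b h
  have : Fact (Nat.Prime 5) := ⟨Nat.prime_five⟩
  have : Fact (Nat.Prime 47) := ⟨by norm_num⟩
  obtain ⟨y0, hy0, c, hc, hcd⟩ := exists_five h
  have hn0 : ¬ 47 ∣ Nat.card ↥(centralizer ({y0} : Set L)) := by
    intro hd
    rcases hc with rfl | rfl
    · exact absurd (hd.trans hcd) (by norm_num)
    · exact absurd (hd.trans hcd) (by norm_num)
  intro hxy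
  refine H296.OneElt.not_comm (p := 5) (l := 47) (by norm_num) (by rw [hN]; norm_num) ?_ (y0 := y0)
    ⟨1, by rw [pow_one, ← hy0, pow_orderOf_eq_one]⟩ hn0 hy hx hxy.symm
  intro x y hx hy hxy
  by_cases ho : Odd (Nat.card ↥(centralizer ({y} : Set L)))
  · refine H377.SporB.inCore_of_solvable (by norm_num) (fun k hk0 hd => ?_) hx hxy (Cfsg.Agent.S0205.result ho)
    have hk6 : k ≤ 6 := by
      by_contra hc
      have h1 : 5 ^ 7 ∣ Nat.card L := (pow_dvd_pow 5 (by omega)).trans hd
      rw [hN] at h1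
      norm_num at h1
    interval_cases k <;> first | exact absurd rfl hk0 | norm_num
  · exfalso
    rw [Nat.not_odd_iff_even, even_iff_two_dvd] at ho
    have : Fact (Nat.Prime 2) := ⟨Nat.prime_two⟩
    obtain ⟨w, hw⟩ := exists_prime_orderOf_dvd_card' (G := ↥(centralizer ({y} : Set L))) 2 ho
    exact H979.OddB.five_comm h (q := 47) (by simp) hy hx (w := (w : L)) (by rw [Subgroup.orderOf_coe, hw])
      (mem_centralizer_singleton_iff.1 w.2).symm hxy.symm

/-- the Frattini argument for a prime `q`, `q² ∤ |B|`, whose subgroup is normalized by a 3-element -/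
theorem not_dvd_frk (h : Spor.IsoB L) {q : ℕ} (hq : q.Prime) (hq2 : ¬ q * q ∣ 4154781481226426191177580544000000)
    (hf : Frk 3 q L) {x : L} (hx : orderOf x = 47) : ¬ q ∣ Nat.card (centralizer ({x} : Set L)) := by
  have hN := NotCT.Orders.b h
  intro hd
  obtain ⟨w, hw, hwx⟩ := exists_of_dvd hq hd
  obtain ⟨u, y, hu, hy, ⟨m, hm⟩, hne⟩ := hf
  have h1 : 47 ∣ Nat.card (centralizer ({y} : Set L)) := by
    rw [H547.SelfCent.card_cent_eq hq (by rw [hN]; exact hq2) hy hw]
    exact dvd_of_exists hx hwx.symm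
  obtain ⟨v, hv, hvy⟩ := exists_of_dvd (by norm_num) h1
  refine no_comm_of_frattini (a := 1) Nat.prime_three (by norm_num : Nat.Prime 47) (by norm_num) hu hm hne ?_
    (by rw [hN]; norm_num) (fun b w hb hw => H979.OddB.nadj3 h (by simp) hb hw) v hv hvy
  intro i h1 h2
  obtain rfl : i = 1 := by omega
  norm_num

theorem card_cent_47 (h : Spor.IsoB L) {x : L} (hx : orderOf x = 47) :
    Nat.card (centralizer ({x} : Set L)) ≤ 202147 := by
  have hN := NotCT.Orders.b h
  have h2 : ¬ 2 ∣ Nat.card (centralizer ({x} : Set L)) := by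
    intro hd
    obtain ⟨w, hw, hwx⟩ := exists_of_dvd Nat.prime_two hd
    exact H149.Sp.na_b_all h (p := 47) (by norm_num) (by norm_num) (by norm_num) (by norm_num) x w hx hw hwx.symm
  have h3 : ¬ 3 ∣ Nat.card (centralizer ({x} : Set L)) := by
    intro hd
    obtain ⟨w, hw, hwx⟩ := exists_of_dvd Nat.prime_three hd
    exact H979.OddB.nadj3 h (q := 47) (by simp) hw hx hwx
  have h5 : ¬ 5 ∣ Nat.card (centralizer ({x} : Set L)) := by
    intro hd
    obtain ⟨w, hw, hwx⟩ := exists_of_dvd Nat.prime_five hd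
    exact five47 h hw hx hwx
  have h7 : ¬ 7 ∣ Nat.card (centralizer ({x} : Set L)) := by
    intro hd
    obtain ⟨w, hw, hwx⟩ := exists_of_dvd (by norm_num) hd
    exact H979.OddB.nadj7 h (q := 47) (by simp) hw hx hwx
  have h13 : ¬ 13 ∣ Nat.card (centralizer ({x} : Set L)) :=
    not_dvd_frk h (by norm_num) (by norm_num) (frk_3_13 h) hx
  have h19 : ¬ 19 ∣ Nat.card (centralizer ({x} : Set L)) :=
    not_dvd_frk h (by norm_num) (by norm_num) (frk_3_19 h) hx
  have h31 : ¬ 31 ∣ Nat.card (centralizer ({x} : Set L)) := by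
    intro hd
    obtain ⟨w, hw, hwx⟩ := exists_of_dvd (by norm_num) hd
    obtain ⟨e⟩ := h
    refine H149.Sp.not_adj_b ⟨e (w * x), ?_⟩
    rw [MulEquiv.orderOf_eq, (show Commute w x from hwx).orderOf_mul_eq_mul_orderOf_of_coprime
      (by rw [hw, hx]; norm_num), hw, hx]
  have hd : Nat.card (centralizer ({x} : Set L)) ∣
      (2 ^ 41 * 3 ^ 13 * 5 ^ 6 * 7 ^ 2 * 13 * 19 * 31) * 202147 := by
    have h1 := card_subgroup_dvd_card (centralizer ({x} : Set L))
    rw [hN] at h1
    exact h1.trans (by norm_num)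
  refine Nat.le_of_dvd (by norm_num) (Nat.Coprime.dvd_of_dvd_mul_left ?_ hd)
  have key : ∀ {p k : ℕ}, p.Prime → ¬ p ∣ Nat.card (centralizer ({x} : Set L)) →
      (Nat.card (centralizer ({x} : Set L))).Coprime (p ^ k) := fun hp hn =>
    Nat.Coprime.pow_right _ ((Nat.Prime.coprime_iff_not_dvd hp).2 hn).symm
  have key1 : ∀ {p : ℕ}, p.Prime → ¬ p ∣ Nat.card (centralizer ({x} : Set L)) →
      (Nat.card (centralizer ({x} : Set L))).Coprime p := fun hp hn =>
    ((Nat.Prime.coprime_iff_not_dvd hp).2 hn).symm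
  exact ((((((key Nat.prime_two h2).mul_right (key Nat.prime_three h3)).mul_right (key Nat.prime_five h5)).mul_right
    (key (by norm_num) h7)).mul_right (key1 (by norm_num) h13)).mul_right (key1 (by norm_num) h19)).mul_right
    (key1 (by norm_num) h31)

end Cfsg.Agent.H829.Pw
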