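import Cfsg.Agent.H980.PwFi23

/-!
# `Fi23`: every element is a product of five `p`-elements, `p = 17, 23` (S2454, helper829)
-/

set_option autoImplicit false

namespace Cfsg.Agent.H829.Pw

open Subgroup Cfsg Cfsg.Agent.H514.DP Cfsg.Agent.H773.Pw Cfsg.Agent.H980.PwFi23
open Cfsg.Agent.H836.Main (centralizer_zpowers)

theorem fi23_17 : PW 17 5 Spor.Fi23 := by
  obtain ⟨y, hy⟩ := exists_order (K := Spor.Fi23) (l := 17) (by norm_num) (by rw [card_fi23]; norm_num)
  exact pw_of_pe na (IsPE.of_prime hy).pe minDeg (c := 17) (by rw [← centralizer_zpowers, (cent17 hy).1]) (k := 5)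
    (by norm_num) (by norm_num) (by norm_num)

theorem fi23_23 : PW 23 5 Spor.Fi23 := by
  obtain ⟨y, hy⟩ := exists_order (K := Spor.Fi23) (l := 23) (by norm_num) (by rw [card_fi23]; norm_num)
  exact pw_of_pe na (IsPE.of_prime hy).pe minDeg (c := 23) (by rw [← centralizer_zpowers, (cent23 hy).1]) (k := 5)
    (by norm_num) (by norm_num) (by norm_num)

end Cfsg.Agent.H829.Pw
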