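import Cfsg.Agent.H829.Pw.ATwelve
import Cfsg.Agent.H829.Pw.BDeg
import Cfsg.Agent.H829.Pw.BSeven
import Cfsg.Agent.H829.Pw.FiSmall
import Cfsg.Agent.H829.Pw.ThSmall
import Cfsg.Agent.H829.Pw.BFortySeven
import Cfsg.Agent.H800.Sp.B
import Cfsg.Agent.HN.A12Group

/-!
# S2454: the row `B` (helper829, task 3459)

`D = 4371`. Every element of order 7 has a centralizer of order at most 564480 (`k = 10`); it is a product of
two `p`-elements for `p = 2, 3, 5, 7, 11` (`A₁₂ ≤ HN ≤ B`), of five for `p = 17, 23` (`Fi23 ≤ B`), of at most six for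
`p = 13, 19, 31` (`Th ≤ B`). For `p = 47` the centralizer of an element of order 47 has order at most 202147.
-/

set_option autoImplicit false
set_option maxRecDepth 100000

namespace Cfsg.Agent.H829.Pw

open Subgroup Cfsg Cfsg.Agent.H514.DP Cfsg.Agent.H773.Pw

theorem b_card : Nat.card Spor.BabyMonster = 4154781481226426191177580544000000 :=
  NotCT.Orders.b ⟨MulEquiv.refl _⟩

theorem b_finite : Finite Spor.BabyMonster := Nat.finite_of_card_ne_zero (by rw [b_card]; norm_num)

theorem b_na [IsSimpleGroup Spor.BabyMonster] : ¬ ∀ a b : Spor.BabyMonster, a * b = b * a :=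
  H253.TC.not_comm_of_card b_card (by norm_num) (p := 47) (by norm_num) (by norm_num) (by norm_num)

/-- an element of order 7 which is a product of at most seven `p`-elements -/
theorem pw_of_seven [IsSimpleGroup Spor.BabyMonster] {p m : ℕ} (hm : m ≤ 7) {y : Spor.BabyMonster}
    (hy : orderOf y = 7) (hp : PE p m y) : PW p 70 Spor.BabyMonster := by
  have := b_finite
  exact pw_of_pe b_na hp minDeg_model (card_cent_seven (L := Spor.BabyMonster) ⟨MulEquiv.refl _⟩ hy) (k := 10)
    (by norm_num) (by norm_num) (by omega)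

/-- `A₁₂ ≤ HN ≤ B` -/
theorem exists_a12 : ∃ f : alternatingGroup (Fin 12) →* Spor.BabyMonster, Function.Injective f := by
  obtain ⟨K, ⟨e⟩⟩ := Cfsg.Agent.HN.A12Group.exists_alternating
  obtain ⟨g, hg⟩ := H569.BFive.exists_hom
  exact ⟨g.comp (K.subtype.comp e.symm.toMonoidHom), hg.comp (K.subtype_injective.comp e.symm.injective)⟩

/-- `Th ≤ B` -/
theorem exists_th : ∃ f : Spor.Th →* Spor.BabyMonster, Function.Injective f := by
  obtain ⟨T, ⟨e⟩⟩ := H800.Sp.B.exists_th_B
  exact ⟨T.subtype.comp e.symm.toMonoidHom, T.subtype_injective.comp e.symm.injective⟩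

theorem pw_b_model [IsSimpleGroup Spor.BabyMonster] {p : ℕ} (hp : p.Prime) (hd : p ∣ Nat.card Spor.BabyMonster) :
    PW p 70 Spor.BabyMonster := by
  have hfin := b_finite
  have h : p ∣ 2 ^ 41 * 3 ^ 13 * 5 ^ 6 * 7 ^ 2 * 11 * 13 * 17 * 19 * 23 * 31 * 47 := by
    rw [b_card] at hd
    exact hd.trans (by norm_num)
  have hsmall : p ∈ [2, 3, 5, 7, 11] → PW p 70 Spor.BabyMonster := fun h => by
    obtain ⟨f, hf⟩ := exists_a12
    exact pw_of_seven (by norm_num) (by rw [orderOf_injective f hf, orderOf_Y]) ((pe_Y h).map f)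
  have hfi : PW p 5 Spor.Fi23 → PW p 70 Spor.BabyMonster := fun h => by
    obtain ⟨f, hf⟩ := H820.ElB.exists_hom
    obtain ⟨y, hy⟩ := exists_order (K := Spor.Fi23) (l := 7) (by norm_num)
      (by rw [H980.PwFi23.card_fi23]; norm_num)
    exact pw_of_seven (by norm_num) (by rw [orderOf_injective f hf, hy]) ((h y).map f)
  have hth : PW p 6 Spor.Th → PW p 70 Spor.BabyMonster := fun h => by
    obtain ⟨f, hf⟩ := exists_th
    have := th_finite
    obtain ⟨y, hy⟩ := exists_order (K := Spor.Th) (l := 7) (by norm_num) (by rw [th_card]; norm_num)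
    exact pw_of_seven (by norm_num) (by rw [orderOf_injective f hf, hy]) ((h y).map f)
  simp only [hp.dvd_mul] at h
  rcases h with (((((((((h | h) | h) | h) | h) | h) | h) | h) | h) | h) | h
  · obtain rfl := (Nat.prime_dvd_prime_iff_eq hp Nat.prime_two).1 (hp.dvd_of_dvd_pow h)
    exact hsmall (by simp)
  · obtain rfl := (Nat.prime_dvd_prime_iff_eq hp Nat.prime_three).1 (hp.dvd_of_dvd_pow h)
    exact hsmall (by simp)
  · obtain rfl := (Nat.prime_dvd_prime_iff_eq hp Nat.prime_five).1 (hp.dvd_of_dvd_pow h)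
    exact hsmall (by simp)
  · obtain rfl := (Nat.prime_dvd_prime_iff_eq hp (by norm_num)).1 (hp.dvd_of_dvd_pow h)
    exact hsmall (by simp)
  · obtain rfl := (Nat.prime_dvd_prime_iff_eq hp (by norm_num)).1 h
    exact hsmall (by simp)
  · obtain rfl := (Nat.prime_dvd_prime_iff_eq hp (by norm_num)).1 h
    exact hth (th_pw13 exists_th.choose_spec)
  · obtain rfl := (Nat.prime_dvd_prime_iff_eq hp (by norm_num)).1 h
    exact hfi fi23_17
  · obtain rfl := (Nat.prime_dvd_prime_iff_eq hp (by norm_num)).1 h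
    exact hth ((th_pw19 exists_th.choose_spec).mono (by norm_num))
  · obtain rfl := (Nat.prime_dvd_prime_iff_eq hp (by norm_num)).1 h
    exact hfi fi23_23
  · obtain rfl := (Nat.prime_dvd_prime_iff_eq hp (by norm_num)).1 h
    exact hth ((th_pw31 exists_th.choose_spec).mono (by norm_num))
  · obtain rfl := (Nat.prime_dvd_prime_iff_eq hp (by norm_num)).1 h
    exact pw_of_order b_na hp hd minDeg_model
      (fun y hy => card_cent_47 (L := Spor.BabyMonster) ⟨MulEquiv.refl _⟩ hy) (k := 8) (by norm_num) (by norm_num)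
      (by norm_num)

/-- **The Baby Monster.** -/
theorem pw_b {S : Type*} [Group S] [Finite S] [IsSimpleGroup S] (h : Spor.IsoB S) {p : ℕ} (hp : p.Prime)
    (hd : p ∣ Nat.card S) : PW p 70 S := by
  obtain ⟨e⟩ := h
  have : IsSimpleGroup Spor.BabyMonster := e.symm.isSimpleGroup
  exact (pw_b_model hp (by rwa [← Nat.card_congr e.toEquiv])).congr e.symm

end Cfsg.Agent.H829.Pw
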