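import Cfsg.Agent.H514.DP.Core

/-!
# A 7-cycle of `A₁₂` as a product of two `p`-elements, `p = 2, 3, 5, 7, 11` (S2454, helper829)
-/

set_option autoImplicit false

namespace Cfsg.Agent.H829.Pw

open Cfsg Cfsg.Agent.H514.DP

/-- a permutation from lists of images -/
def mk12 (a b : Fin 12 → Fin 12) (h : (∀ i, b (a i) = i) ∧ ∀ i, a (b i) = i) : Equiv.Perm (Fin 12) :=
  ⟨a, b, h.1, h.2⟩

def y12 : Equiv.Perm (Fin 12) :=
  mk12 ![1, 2, 3, 4, 5, 6, 0, 7, 8, 9, 10, 11] ![6, 0, 1, 2, 3, 4, 5, 7, 8, 9, 10, 11] (by decide)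

def a2 : Equiv.Perm (Fin 12) :=
  mk12 ![0, 6, 5, 4, 3, 2, 1, 8, 7, 9, 10, 11] ![0, 6, 5, 4, 3, 2, 1, 8, 7, 9, 10, 11] (by decide)

def a3 : Equiv.Perm (Fin 12) :=
  mk12 ![0, 2, 4, 6, 1, 3, 5, 7, 8, 9, 10, 11] ![0, 4, 1, 5, 2, 6, 3, 7, 8, 9, 10, 11] (by decide)

def a5 : Equiv.Perm (Fin 12) :=
  mk12 ![0, 1, 2, 3, 8, 5, 4, 7, 10, 6, 9, 11] ![0, 1, 2, 3, 6, 5, 9, 7, 4, 10, 8, 11] (by decide)

def a11 : Equiv.Perm (Fin 12) :=
  mk12 ![8, 3, 0, 5, 7, 2, 4, 11, 10, 9, 6, 1] ![2, 11, 5, 1, 6, 3, 10, 4, 0, 9, 8, 7] (by decide)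

theorem mem_alt_of_odd_pow {g : Equiv.Perm (Fin 12)} {n : ℕ} (hn : Odd n) (h : g ^ n = 1) :
    g ∈ alternatingGroup (Fin 12) := by
  rw [Equiv.Perm.mem_alternatingGroup]
  have h1 : Equiv.Perm.sign g ^ n = 1 := by rw [← map_pow, h, map_one]
  rcases Int.units_eq_one_or (Equiv.Perm.sign g) with h2 | h2
  · exact h2
  · rw [h2, hn.neg_one_pow] at h1
    rw [h2, h1]

theorem y12_pow : y12 ^ 7 = 1 := by decide +kernel

theorem y12_ne : y12 ≠ 1 := by decide +kernel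

theorem y12_mem : y12 ∈ alternatingGroup (Fin 12) := mem_alt_of_odd_pow (by decide : Odd 7) y12_pow

/-- the 7-cycle -/
def Y : alternatingGroup (Fin 12) := ⟨y12, y12_mem⟩

theorem orderOf_Y : orderOf Y = 7 := by
  have : Fact (Nat.Prime 7) := ⟨by norm_num⟩
  exact orderOf_eq_prime (Subtype.ext y12_pow) fun h => y12_ne (congrArg Subtype.val h)

/-- a decomposition in the symmetric group gives one in the alternating group -/
theorem pe_two_of {p : ℕ} {a : Equiv.Perm (Fin 12)} (ha : a ∈ alternatingGroup (Fin 12)) (hp : a ^ p = 1)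
    (hb : (a⁻¹ * y12) ^ p = 1) : PE p 2 Y := by
  have h1 : IsPE p (⟨a, ha⟩ : alternatingGroup (Fin 12)) := ⟨1, Subtype.ext (by rw [pow_one]; exact hp)⟩
  have h2 : IsPE p ((⟨a, ha⟩ : alternatingGroup (Fin 12))⁻¹ * Y) := ⟨1, Subtype.ext (by rw [pow_one]; exact hb)⟩
  have h3 := h1.pe.mul h2.pe
  rwa [mul_inv_cancel_left] at h3

theorem a2_mem : a2 ∈ alternatingGroup (Fin 12) := by
  rw [Equiv.Perm.mem_alternatingGroup]
  decide +kernel

theorem pe2 : PE 2 2 Y := pe_two_of a2_mem (by decide +kernel) (by decide +kernel)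

theorem pe3 : PE 3 2 Y :=
  have h : a3 ^ 3 = 1 := by decide +kernel
  pe_two_of (mem_alt_of_odd_pow (by decide) h) h (by decide +kernel)

theorem pe5 : PE 5 2 Y :=
  have h : a5 ^ 5 = 1 := by decide +kernel
  pe_two_of (mem_alt_of_odd_pow (by decide) h) h (by decide +kernel)

theorem pe7 : PE 7 2 Y := (IsPE.of_prime orderOf_Y).pe.mono (by norm_num)

theorem pe11 : PE 11 2 Y :=
  have h : a11 ^ 11 = 1 := by decide +kernel
  pe_two_of (mem_alt_of_odd_pow (by decide) h) h (by decide +kernel)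

/-- the five primes -/
theorem pe_Y {p : ℕ} (hp : p ∈ [2, 3, 5, 7, 11]) : PE p 2 Y := by
  simp only [List.mem_cons, List.not_mem_nil, or_false] at hp
  rcases hp with rfl | rfl | rfl | rfl | rfl
  · exact pe2
  · exact pe3
  · exact pe5
  · exact pe7
  · exact pe11

end Cfsg.Agent.H829.Pw
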